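import Mathlib

/-!
# The submodule of elements vanishing at the minimal primes of the annihilator (helper5)
-/

set_option autoImplicit false
universe u v

namespace Groth.Agent.Lib.Helper5.NdSub

variable (R : Type u) [CommRing R] (M : Type v) [AddCommGroup M] [Module R M]

/-- the elements of `M` which vanish in the localisation at every minimal prime of the
annihilator of `M` -/
def ndSub : Submodule R M where
  carrier := {m | ∀ Q ∈ (Module.annihilator R M).minimalPrimes, ∃ r, r ∉ Q ∧ r • m = 0}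
  add_mem' := by
    intro a b ha hb Q hQ
    obtain ⟨r, hr, hra⟩ := ha Q hQ
    obtain ⟨s, hs, hsb⟩ := hb Q hQ
    haveI := hQ.1.1
    refine ⟨r * s, fun h => (hQ.1.1.mem_or_mem h).elim hr hs, ?_⟩
    have h1 : (r * s) • a = 0 := by rw [mul_comm, mul_smul, hra, smul_zero]
    have h2 : (r * s) • b = 0 := by rw [mul_smul, hsb, smul_zero]
    rw [smul_add, h1, h2, add_zero]
  zero_mem' := fun Q hQ => ⟨1, (Ideal.ne_top_iff_one _).1 hQ.1.1.ne_top, smul_zero _⟩
  smul_mem' := by
    intro c a ha Q hQ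
    obtain ⟨r, hr, hra⟩ := ha Q hQ
    exact ⟨r, hr, by rw [smul_comm, hra, smul_zero]⟩

variable {R M}

theorem mem_ndSub_iff (m : M) :
    m ∈ ndSub R M ↔ ∀ Q ∈ (Module.annihilator R M).minimalPrimes, ∃ r, r ∉ Q ∧ r • m = 0 :=
  Iff.rfl

/-- an element outside a minimal prime lying in all the other minimal primes -/
theorem exists_notMem_forall_mem [IsNoetherianRing R] (I : Ideal R) {P : Ideal R}
    (hP : P ∈ I.minimalPrimes) :
    ∃ g : R, g ∉ P ∧ ∀ Q ∈ I.minimalPrimes, Q ≠ P → g ∈ Q := by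
  have hfin : (I.minimalPrimes \ {P}).Finite :=
    (Ideal.finite_minimalPrimes_of_isNoetherianRing R _).subset Set.sdiff_subset
  haveI := hP.1.1
  have hnle : ¬ (hfin.toFinset.inf id ≤ P) := by
    intro hle
    obtain ⟨Q, hQS, hQP⟩ := (Ideal.IsPrime.inf_le' hP.1.1).mp hle
    rw [Set.Finite.mem_toFinset] at hQS
    have hPQ : P ≤ Q := hP.2 hQS.1.1 hQP
    exact hQS.2 (le_antisymm hQP hPQ)
  obtain ⟨g, hg, hgP⟩ := SetLike.not_le_iff_exists.mp hnle
  refine ⟨g, hgP, fun Q hQ hQne => ?_⟩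
  have := (Submodule.mem_finsetInf.mp hg) Q (by
    rw [Set.Finite.mem_toFinset]
    exact ⟨hQ, hQne⟩)
  exact this

/-- an element of a minimal prime over `I` has a power which is pushed into `I` by an element
outside the prime -/
theorem exists_mul_pow_mem [IsNoetherianRing R] (I : Ideal R) {P : Ideal R}
    (hP : P ∈ I.minimalPrimes) {f : R} (hf : f ∈ P) :
    ∃ s : R, s ∉ P ∧ ∃ k : ℕ, s * f ^ k ∈ I := by
  obtain ⟨g, hgP, hgQ⟩ := exists_notMem_forall_mem I hP
  haveI := hP.1.1
  have hrad : f * g ∈ I.radical := by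
    rw [← Ideal.sInf_minimalPrimes, Submodule.mem_sInf]
    intro Q hQ
    by_cases hQP : Q = P
    · rw [hQP]
      exact Ideal.mul_mem_right _ _ hf
    · exact Ideal.mul_mem_left _ _ (hgQ Q hQ hQP)
  obtain ⟨k, hk⟩ := hrad
  refine ⟨g ^ k, fun h => hgP (hP.1.1.mem_of_pow_mem k h), k, ?_⟩
  rw [← mul_pow, mul_comm]
  exact hk

/-- an element vanishing at the minimal primes not containing `f` is pushed into `ndSub` by a
power of `f` -/
theorem exists_pow_smul_mem_ndSub [IsNoetherianRing R] (f : R) (m : M)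
    (h : ∀ Q ∈ (Module.annihilator R M).minimalPrimes, f ∉ Q → ∃ r, r ∉ Q ∧ r • m = 0) :
    ∃ n : ℕ, f ^ n • m ∈ ndSub R M := by
  have key : ∀ Q ∈ (Module.annihilator R M).minimalPrimes,
      ∃ k : ℕ, ∃ r, r ∉ Q ∧ r • f ^ k • m = 0 := by
    intro Q hQ
    by_cases hfQ : f ∈ Q
    · obtain ⟨s, hs, k, hk⟩ := exists_mul_pow_mem _ hQ hfQ
      refine ⟨k, s, hs, ?_⟩
      rw [← mul_smul]
      exact Module.mem_annihilator.mp hk m
    · obtain ⟨r, hr, hrm⟩ := h Q hQ hfQ
      exact ⟨0, r, hr, by rw [pow_zero, one_smul, hrm]⟩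
  choose! k hk using key
  have hfin := Ideal.finite_minimalPrimes_of_isNoetherianRing R (Module.annihilator R M)
  refine ⟨hfin.toFinset.sup k, fun Q hQ => ?_⟩
  obtain ⟨r, hr, hrm⟩ := hk Q hQ
  have hle : k Q ≤ hfin.toFinset.sup k :=
    Finset.le_sup (f := k) ((Set.Finite.mem_toFinset hfin).2 hQ)
  refine ⟨r, hr, ?_⟩
  obtain ⟨d, hd⟩ := Nat.exists_eq_add_of_le hle
  rw [hd, pow_add, mul_comm, mul_smul, smul_comm, hrm, smul_zero]

section Quot

variable {M' : Type*} [AddCommGroup M'] [Module R M'] (π : M →ₗ[R] M')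
  (hπ : Function.Surjective π) (hker : LinearMap.ker π = ndSub R M)

include hπ hker

/-- the associated primes of the quotient by `ndSub` are minimal primes of the annihilator -/
theorem mem_minimalPrimes_of_mem_associatedPrimes [IsNoetherianRing R] {P : Ideal R}
    (hP : P ∈ associatedPrimes R M') : P ∈ (Module.annihilator R M).minimalPrimes := by
  obtain ⟨hPp, m', hPm⟩ := isAssociatedPrime_iff.mp hP
  obtain ⟨m, rfl⟩ := hπ m'
  have hmem : ∀ r : R, r ∈ P ↔ r • m ∈ ndSub R M := by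
    intro r
    rw [hPm, Submodule.mem_colon_singleton, Submodule.mem_bot, ← map_smul, ← hker,
      LinearMap.mem_ker]
  have hm : m ∉ ndSub R M := by
    intro hm
    apply hPp.ne_top
    rw [Ideal.eq_top_iff_one, hmem, one_smul]
    exact hm
  rw [mem_ndSub_iff] at hm
  push Not at hm
  obtain ⟨Q, hQ, hQm⟩ := hm
  haveI := hQ.1.1
  have hPQ : P ≤ Q := by
    intro r hr
    by_contra hrQ
    obtain ⟨s, hs, hsr⟩ := ((hmem r).mp hr) Q hQ
    rw [← mul_smul] at hsr
    exact hQm (s * r) (fun h => (hQ.1.1.mem_or_mem h).elim hs hrQ) hsr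
  have hIP : Module.annihilator R M ≤ P := by
    intro a ha
    rw [hmem, Module.mem_annihilator.mp ha m]
    exact zero_mem _
  have hQP : Q ≤ P := hQ.2 ⟨hPp, hIP⟩ hPQ
  rw [le_antisymm hPQ hQP]
  exact hQ

omit hπ in
/-- the annihilator of the quotient by `ndSub` lies in every minimal prime of the annihilator -/
theorem annihilator_quot_le [Module.Finite R M] {Q : Ideal R}
    (hQ : Q ∈ (Module.annihilator R M).minimalPrimes) : Module.annihilator R M' ≤ Q := by
  intro a ha
  by_contra haQ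
  haveI := hQ.1.1
  have hsupp : (⟨Q, hQ.1.1⟩ : PrimeSpectrum R) ∈ Module.support R M :=
    Module.mem_support_iff_of_finite.2 hQ.1.2
  apply (Module.notMem_support_iff'.2 ?_) hsupp
  intro m
  have h1 : a • m ∈ ndSub R M := by
    rw [← hker, LinearMap.mem_ker, map_smul]
    exact Module.mem_annihilator.mp ha _
  obtain ⟨s, hs, hsm⟩ := h1 Q hQ
  refine ⟨s * a, fun h => (hQ.1.1.mem_or_mem h).elim hs haQ, ?_⟩
  rw [mul_smul]
  exact hsm

end Quot

end Groth.Agent.Lib.Helper5.NdSub
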