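import Mathlib
import Groth.Prelude.Def_Coh
import Groth.Prelude.Def_CohB1
import Groth.Agent.Lib.Helper5.NdSub.Alg
import Groth.Agent.Lib.Helper5.RedOpen.Main
import Groth.Agent.Lib.Helper4.CohSk1
import Groth.Agent.Lib.Lead.SD1
import Groth.Agent.Lib.Helper7.CohStalk.Support
import Groth.Agent.Lib.Helper1.SubSh
import Groth.Agent.Lib.Helper1.SubExt1
import Groth.Agent.Lib.Helper1.SubExt2
import Groth.Agent.Lib.Helper1.SubExt6
import Groth.Agent.Lib.Helper1.QcAbel
import Groth.Agent.Lib.Helper1.FtLocal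

/-!
# The largest subsheaf with nowhere dense support: construction (helper5)
-/

set_option autoImplicit false
set_option linter.unusedSectionVars false
set_option linter.unusedVariables false
set_option backward.isDefEq.respectTransparency.types false
universe u
open CategoryTheory CategoryTheory.Limits AlgebraicGeometry TopologicalSpace

namespace Groth.Agent.Lib.Helper5.NdSub

open Groth.Agent.Helper1.SubSh Groth.Agent.Helper1.QcCech Groth.Agent.Helper1

attribute [local instance] Groth.Agent.Lead.SD.stalkModule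

variable {X : Scheme.{u}} (F : X.Modules)

/-- the maximal points of the support -/
def maxPt : Set X := {x | x ∈ CohB1.support F ∧ ∀ y ∈ CohB1.support F, y ⤳ x → y = x}

section Chart

variable [F.IsQuasicoherent] {V : X.Opens} (hV : IsAffineOpen V)

include hV in
theorem mem_support_iff (x : V) :
    x.1 ∈ CohB1.support F ↔ hV.primeIdealOf x ∈ Module.support Γ(X, V) Γ(F, V) :=
  (Groth.Agent.Helper7.FinType.primeIdealOf_mem_support_iff F inferInstance hV x.1 x.2).symm

include hV in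
theorem mem_support_iff_le [Module.Finite Γ(X, V) Γ(F, V)] (x : V) :
    x.1 ∈ CohB1.support F ↔
      Module.annihilator Γ(X, V) Γ(F, V) ≤ (hV.primeIdealOf x).asIdeal := by
  rw [mem_support_iff F hV x, Module.mem_support_iff_of_finite]

include hV in
theorem primeIdealOf_injective {x y : V} (h : hV.primeIdealOf x = hV.primeIdealOf y) : x = y := by
  apply Subtype.ext
  rw [← hV.fromSpec_primeIdealOf x, ← hV.fromSpec_primeIdealOf y, h]

include hV in
/-- the maximal points of the support in an affine chart are the minimal primes of the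
annihilator -/
theorem mem_maxPt_iff [Module.Finite Γ(X, V) Γ(F, V)] (x : V) :
    x.1 ∈ maxPt F ↔
      (hV.primeIdealOf x).asIdeal ∈ (Module.annihilator Γ(X, V) Γ(F, V)).minimalPrimes := by
  constructor
  · rintro ⟨hxS, hmax⟩
    have hIP := (mem_support_iff_le F hV x).mp hxS
    obtain ⟨Q, hQmin, hQP⟩ := Ideal.exists_minimalPrimes_le hIP
    have hQp : Q.IsPrime := hQmin.1.1
    obtain ⟨y₀, hy₀⟩ : ∃ y₀ : V, hV.primeIdealOf y₀ = ⟨Q, hQp⟩ :=
      ⟨⟨_, Groth.Agent.Lead.SD.fromSpec_mem hV _⟩, Groth.Agent.Lead.SD.primeIdealOf_fromSpec hV _⟩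
    have hyS : y₀.1 ∈ CohB1.support F := by
      rw [mem_support_iff_le F hV y₀, hy₀]
      exact hQmin.1.2
    have hspec : y₀.1 ⤳ x.1 := by
      rw [Groth.Agent.Lib.Helper4.CohSk1.spec_iff hV x y₀, hy₀]
      exact hQP
    have heq : y₀ = x := Subtype.ext (hmax y₀.1 hyS hspec)
    rw [← heq, hy₀]
    exact hQmin
  · intro hmin
    refine ⟨(mem_support_iff_le F hV x).mpr hmin.1.2, fun y hyS hspec => ?_⟩
    have hyV : y ∈ V := hspec.mem_open V.isOpen x.2
    obtain ⟨y₀, hy₀⟩ : ∃ y₀ : V, y₀.1 = y := ⟨⟨y, hyV⟩, rfl⟩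
    have hIy : Module.annihilator Γ(X, V) Γ(F, V) ≤ (hV.primeIdealOf y₀).asIdeal := by
      rw [← mem_support_iff_le F hV y₀, hy₀]
      exact hyS
    have hle : hV.primeIdealOf y₀ ≤ hV.primeIdealOf x := by
      rw [← Groth.Agent.Lib.Helper4.CohSk1.spec_iff hV x y₀, hy₀]
      exact hspec
    have hle' : (hV.primeIdealOf x).asIdeal ≤ (hV.primeIdealOf y₀).asIdeal :=
      hmin.2 ⟨(hV.primeIdealOf y₀).2, hIy⟩ hle
    have heq : hV.primeIdealOf y₀ = hV.primeIdealOf x :=
      PrimeSpectrum.ext (le_antisymm hle hle')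
    rw [← hy₀, primeIdealOf_injective hV heq]

include hV in
/-- the germ of a section over an affine open vanishes iff the section is killed by a function
which does not vanish at the point -/
theorem germ_eq_zero_iff (x : V) (s : Γ(F, V)) :
    F.presheaf.germ V x.1 x.2 s = 0 ↔
      ∃ r : Γ(X, V), r ∉ (hV.primeIdealOf x).asIdeal ∧ r • s = 0 := by
  haveI := Groth.Agent.Lead.SD.isLocalizedModule_germ F hV x
  have h := IsLocalizedModule.eq_zero_iff (hV.primeIdealOf x).asIdeal.primeCompl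
    (Groth.Agent.Lead.SD.germₗ F x) (m := s)
  rw [Groth.Agent.Lead.SD.germₗ_apply] at h
  rw [h]
  constructor
  · rintro ⟨c, hc⟩
    exact ⟨c.1, c.2, hc⟩
  · rintro ⟨r, hr, hrs⟩
    exact ⟨⟨r, hr⟩, hrs⟩

end Chart

/-- the sections vanishing at the maximal points of the support -/
noncomputable def ndLocalSub : LocalSub F where
  carrier U :=
    { carrier := {s | ∀ (x : X) (hx : x ∈ U), x ∈ maxPt F → F.presheaf.germ U x hx s = 0}
      add_mem' := fun {a b} ha hb x hx hm => by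
        rw [map_add, ha x hx hm, hb x hx hm, add_zero]
      zero_mem' := fun x hx _ => map_zero _
      smul_mem' := fun r s hs x hx hm => by
        rw [Groth.Agent.Lead.SD.germ_smul, hs x hx hm, smul_zero] }
  res_mem := fun {U V} h {t} ht x hx hm => by
    have := ht x (h hx) hm
    rw [res]
    change F.presheaf.germ V x hx (F.presheaf.map (homOfLE h).op t) = 0
    rw [TopCat.Presheaf.germ_res_apply]
    exact this
  local_mem := fun {U} t ht x hx hm => by
    obtain ⟨W, hWU, hxW, hW⟩ := ht x hx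
    have := hW x hxW hm
    rw [res] at this
    change F.presheaf.germ W x hxW (F.presheaf.map (homOfLE hWU).op t) = 0 at this
    rw [TopCat.Presheaf.germ_res_apply] at this
    exact this

theorem mem_ndLocalSub_iff {U : X.Opens} (s : Γ(F, U)) :
    s ∈ (ndLocalSub F).carrier U ↔
      ∀ (x : X) (hx : x ∈ U), x ∈ maxPt F → F.presheaf.germ U x hx s = 0 := Iff.rfl

/-- on an affine chart the subsheaf is given by `ndSub` -/
theorem mem_ndLocalSub_iff_mem_ndSub [F.IsQuasicoherent] {V : X.Opens} (hV : IsAffineOpen V)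
    [Module.Finite Γ(X, V) Γ(F, V)] (s : Γ(F, V)) :
    s ∈ (ndLocalSub F).carrier V ↔ s ∈ ndSub Γ(X, V) Γ(F, V) := by
  rw [mem_ndLocalSub_iff, mem_ndSub_iff]
  constructor
  · intro h Q hQ
    have hQp : Q.IsPrime := hQ.1.1
    obtain ⟨y₀, hy₀⟩ : ∃ y₀ : V, hV.primeIdealOf y₀ = ⟨Q, hQp⟩ :=
      ⟨⟨_, Groth.Agent.Lead.SD.fromSpec_mem hV _⟩, Groth.Agent.Lead.SD.primeIdealOf_fromSpec hV _⟩
    have hy : y₀.1 ∈ maxPt F := by
      rw [mem_maxPt_iff F hV y₀, hy₀]
      exact hQ
    have h1 := h y₀.1 y₀.2 hy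
    rw [germ_eq_zero_iff F hV y₀ s, hy₀] at h1
    exact h1
  · intro h x hx hm
    obtain ⟨x₀, hx₀⟩ : ∃ x₀ : V, x₀.1 = x := ⟨⟨x, hx⟩, rfl⟩
    subst hx₀
    rw [mem_maxPt_iff F hV x₀] at hm
    rw [germ_eq_zero_iff F hV x₀ s]
    exact h _ hm

/-- the subsheaf has the extension property -/
theorem ndLocalSub_extPOn [IsLocallyNoetherian X] (hF : Coh.IsCoh F) :
    (ndLocalSub F).ExtPOn ⊤ := by
  haveI := hF.1
  intro B hB _ f y hy
  haveI : IsNoetherianRing Γ(X, B) := IsLocallyNoetherian.component_noetherian ⟨B, hB⟩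
  haveI : Module.Finite Γ(X, B) Γ(F, B) :=
    Groth.Agent.Lib.Helper4.CohSk1.finite_sections F hB hF.2
  obtain ⟨n₀, t₀, ht₀⟩ := QcAbel.extP_of_isQuasicoherent F B hB f _ rfl y
  have hkey : ∀ Q ∈ (Module.annihilator Γ(X, B) Γ(F, B)).minimalPrimes, f ∉ Q →
      ∃ r, r ∉ Q ∧ r • t₀ = 0 := by
    intro Q hQ hfQ
    have hQp : Q.IsPrime := hQ.1.1
    obtain ⟨y₀, hy₀⟩ : ∃ y₀ : B, hB.primeIdealOf y₀ = ⟨Q, hQp⟩ :=
      ⟨⟨_, Groth.Agent.Lead.SD.fromSpec_mem hB _⟩, Groth.Agent.Lead.SD.primeIdealOf_fromSpec hB _⟩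
    have hym : y₀.1 ∈ maxPt F := by
      rw [mem_maxPt_iff F hB y₀, hy₀]
      exact hQ
    have hyf : y₀.1 ∈ X.basicOpen f := by
      rw [Groth.Agent.Lead.SD.mem_basicOpen_iff hB y₀ f, hy₀]
      exact hfQ
    have h1 : F.presheaf.germ (X.basicOpen f) y₀.1 hyf y = 0 := hy y₀.1 hyf hym
    have h2 : F.presheaf.germ B y₀.1 y₀.2 t₀ = 0 := by
      have h3 := congrArg (fun z => F.presheaf.germ (X.basicOpen f) y₀.1 hyf z) ht₀
      simp only at h3
      rw [Groth.Agent.Lead.SD.germ_smul, h1, smul_zero] at h3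
      rw [res] at h3
      change F.presheaf.germ (X.basicOpen f) y₀.1 hyf
        (F.presheaf.map (homOfLE (X.basicOpen_le f)).op t₀) = 0 at h3
      rw [TopCat.Presheaf.germ_res_apply] at h3
      exact h3
    rw [germ_eq_zero_iff F hB y₀ t₀, hy₀] at h2
    exact h2
  obtain ⟨N, hN⟩ := exists_pow_smul_mem_ndSub f t₀ hkey
  refine ⟨N + n₀, f ^ N • t₀, (mem_ndLocalSub_iff_mem_ndSub F hB _).mpr hN, ?_⟩
  rw [res_smul, ht₀, map_pow, pow_add, mul_smul]

theorem isQuasicoherent_ndLocalSub [IsLocallyNoetherian X] (hF : Coh.IsCoh F) :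
    (ndLocalSub F).obj.IsQuasicoherent := by
  haveI := hF.1
  exact (ndLocalSub F).isQuasicoherent_obj (ndLocalSub_extPOn F hF).isQcOn

theorem isCoh_ndLocalSub [IsLocallyNoetherian X] (hF : Coh.IsCoh F) :
    Coh.IsCoh (ndLocalSub F).obj :=
  FtLocal.isCoh_of_mono (ndLocalSub F).ι hF (isQuasicoherent_ndLocalSub F hF)

end Groth.Agent.Lib.Helper5.NdSub
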