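import Mathlib
import Groth.Prelude.Def_Coh
import Groth.Prelude.Def_CohB1
import Groth.Prelude.Def_CurvBase
import Groth.Agent.Lib.Helper5.NdSub.Sub
import Groth.Agent.Lib.Helper1.AffPushEpi
import Groth.Agent.Lib.Helper1.CohAbel
import Groth.Agent.Lib.Helper1.FtSupp
import Groth.Agent.Lib.Lead.BasisIso

/-!
# The largest subsheaf with nowhere dense support: properties (helper5)
-/

set_option autoImplicit false
set_option linter.unusedSectionVars false
set_option linter.unusedVariables false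
set_option backward.isDefEq.respectTransparency.types false
universe u
open CategoryTheory CategoryTheory.Limits AlgebraicGeometry TopologicalSpace

namespace Groth.Agent.Lib.Helper5.NdSub

open Groth.Agent.Helper1.SubSh Groth.Agent.Helper1.QcCech Groth.Agent.Helper1

attribute [local instance] Groth.Agent.Lead.SD.stalkModule

variable {X : Scheme.{u}}

/-- the action of a morphism of modules on sections, as a linear map -/
noncomputable def appₗ {M N : X.Modules} (φ : M ⟶ N) (U : X.Opens) :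
    Γ(M, U) →ₗ[Γ(X, U)] Γ(N, U) where
  toFun := φ.app U
  map_add' := map_add _
  map_smul' := fun r x => Scheme.Modules.Hom.app_smul φ r x

theorem appₗ_apply {M N : X.Modules} (φ : M ⟶ N) (U : X.Opens) (x : Γ(M, U)) :
    appₗ φ U x = φ.app U x := rfl

theorem exists_affine_mem (x : X) : ∃ V : X.Opens, IsAffineOpen V ∧ x ∈ V := by
  obtain ⟨_, ⟨V, hV, rfl⟩, hxV, -⟩ :=
    X.isBasis_affineOpens.exists_subset_of_mem_open (Set.mem_univ x) isOpen_univ
  exact ⟨V, hV, hxV⟩

/-- the complement of the support of a module of finite type -/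
noncomputable def goodOpen {K₀ : X.Modules} (hK : Coh.IsCoh K₀) : X.Opens :=
  ⟨(CohB1.support K₀)ᶜ, (FtGen.isClosed_support K₀ hK.2).isOpen_compl⟩

section Setup

variable [IsLocallyNoetherian X] (F : X.Modules) (hF : Coh.IsCoh F)
  {K₀ : X.Modules} (i : K₀ ⟶ F) [Mono i] (hK : Coh.IsCoh K₀)
  (hi : ∀ (V : X.Opens) (s : Γ(F, V)), s ∈ (ndLocalSub F).carrier V ↔ ∃ t, i.app V t = s)

include hF in
theorem finite_sections {V : X.Opens} (hV : IsAffineOpen V) : Module.Finite Γ(X, V) Γ(F, V) := by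
  haveI := hF.1
  exact Groth.Agent.Lib.Helper4.CohSk1.finite_sections F hV hF.2

include hF in
/-- every point of the support has a generization among the maximal points -/
theorem exists_maxPt_specializes {y : X} (hy : y ∈ CohB1.support F) :
    ∃ x ∈ maxPt F, x ⤳ y := by
  haveI := hF.1
  obtain ⟨V, hV, hyV⟩ := exists_affine_mem y
  haveI := finite_sections F hF hV
  obtain ⟨y₀, hy₀⟩ : ∃ y₀ : V, y₀.1 = y := ⟨⟨y, hyV⟩, rfl⟩
  subst hy₀
  have hIP := (mem_support_iff_le F hV y₀).mp hy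
  obtain ⟨Q, hQmin, hQP⟩ := Ideal.exists_minimalPrimes_le hIP
  have hQp : Q.IsPrime := hQmin.1.1
  obtain ⟨x₀, hx₀⟩ : ∃ x₀ : V, hV.primeIdealOf x₀ = ⟨Q, hQp⟩ :=
    ⟨⟨_, Groth.Agent.Lead.SD.fromSpec_mem hV _⟩, Groth.Agent.Lead.SD.primeIdealOf_fromSpec hV _⟩
  refine ⟨x₀.1, ?_, ?_⟩
  · rw [mem_maxPt_iff F hV x₀, hx₀]
    exact hQmin
  · rw [Groth.Agent.Lib.Helper4.CohSk1.spec_iff hV y₀ x₀, hx₀]
    exact hQP

include hF hi in
theorem ker_appₗ_cokernel {V : X.Opens} (hV : IsAffineOpen V) :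
    LinearMap.ker (appₗ (cokernel.π i) V) = ndSub Γ(X, V) Γ(F, V) := by
  haveI := hF.1
  haveI := finite_sections F hF hV
  ext s
  rw [LinearMap.mem_ker, appₗ_apply, ← mem_ndLocalSub_iff_mem_ndSub F hV s, hi V s]
  constructor
  · intro hs
    let S : ShortComplex X.Modules := ShortComplex.mk i (cokernel.π i) (cokernel.condition i)
    have hS : S.Exact := ShortComplex.exact_cokernel i
    haveI : Mono S.f := inferInstanceAs (Mono i)
    exact QcAbel.app_exact' hS V s hs
  · rintro ⟨t, rfl⟩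
    change (i ≫ cokernel.π i).app V t = 0
    rw [cokernel.condition]
    rfl

include hF hK in
theorem surjective_appₗ_cokernel {V : X.Opens} (hV : IsAffineOpen V) :
    Function.Surjective (appₗ (cokernel.π i) V) := by
  haveI := hF.1
  haveI := hK.1
  haveI : (cokernel i).IsQuasicoherent := QcAbel.isQuasicoherent_cokernel i
  exact AffPushEpi.app_surjective_of_epi (cokernel.π i) V hV

include hF hK in
theorem isCoh_cokernel : Coh.IsCoh (cokernel i) := FtLocal.isCoh_cokernel hK hF i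

include hF hK hi in
/-- the subsheaf vanishes at the maximal points of the support -/
theorem notMem_support_of_mem_maxPt {x : X} (hx : x ∈ maxPt F) : x ∉ CohB1.support K₀ := by
  haveI := hF.1
  haveI := hK.1
  obtain ⟨V, hV, hxV⟩ := exists_affine_mem x
  haveI := finite_sections F hF hV
  obtain ⟨x₀, hx₀⟩ : ∃ x₀ : V, x₀.1 = x := ⟨⟨x, hxV⟩, rfl⟩
  subst hx₀
  rw [mem_support_iff K₀ hV x₀, Module.notMem_support_iff']
  intro t
  have h1 : i.app V t ∈ ndSub Γ(X, V) Γ(F, V) := by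
    rw [← mem_ndLocalSub_iff_mem_ndSub F hV, hi V]
    exact ⟨t, rfl⟩
  obtain ⟨r, hr, hrt⟩ := h1 _ ((mem_maxPt_iff F hV x₀).mp hx)
  refine ⟨r, hr, FtLocal.app_injective_of_mono i V ?_⟩
  rw [Scheme.Modules.Hom.app_smul, hrt, map_zero]

include hF hK hi in
/-- the support of the subsheaf is nowhere dense in the support of `F` -/
theorem nowhereDense (U : X.Opens)
    (h : (U : Set ↥X) ∩ CohB1.support F ⊆ CohB1.support K₀) :
    (U : Set ↥X) ∩ CohB1.support F = ∅ := by
  rw [Set.eq_empty_iff_forall_notMem]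
  rintro y ⟨hyU, hyS⟩
  obtain ⟨x, hxm, hxy⟩ := exists_maxPt_specializes F hF hyS
  have hxU : x ∈ (U : Set X) := hxy.mem_open U.isOpen hyU
  exact notMem_support_of_mem_maxPt F hF i hK hi hxm (h ⟨hxU, hxm.1⟩)

include hF in
/-- a coherent subsheaf with nowhere dense support vanishes at the maximal points -/
theorem notMem_support_of_mem_maxPt' {K' : X.Modules} (hK' : Coh.IsCoh K')
    (h : ∀ U : X.Opens, (U : Set ↥X) ∩ CohB1.support F ⊆ CohB1.support K' →
      (U : Set ↥X) ∩ CohB1.support F = ∅) {x : X} (hx : x ∈ maxPt F) :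
    x ∉ CohB1.support K' := by
  haveI := hF.1
  intro hxK
  obtain ⟨V, hV, hxV⟩ := exists_affine_mem x
  haveI := finite_sections F hF hV
  haveI : IsNoetherianRing Γ(X, V) := IsLocallyNoetherian.component_noetherian ⟨V, hV⟩
  obtain ⟨x₀, hx₀⟩ : ∃ x₀ : V, x₀.1 = x := ⟨⟨x, hxV⟩, rfl⟩
  subst hx₀
  have hPmin := (mem_maxPt_iff F hV x₀).mp hx
  obtain ⟨g, hgP, hgQ⟩ := exists_notMem_forall_mem _ hPmin
  have hxW : x₀.1 ∈ X.basicOpen g := (Groth.Agent.Lead.SD.mem_basicOpen_iff hV x₀ g).2 hgP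
  have hclosed : IsClosed (CohB1.support K') := FtGen.isClosed_support K' hK'.2
  have hsub : ((X.basicOpen g : X.Opens) : Set ↥X) ∩ CohB1.support F ⊆ CohB1.support K' := by
    rintro u ⟨huW, huS⟩
    have huV : u ∈ V := X.basicOpen_le g huW
    obtain ⟨u₀, hu₀⟩ : ∃ u₀ : V, u₀.1 = u := ⟨⟨u, huV⟩, rfl⟩
    subst hu₀
    have hgu : g ∉ (hV.primeIdealOf u₀).asIdeal :=
      (Groth.Agent.Lead.SD.mem_basicOpen_iff hV u₀ g).1 huW
    have hIu := (mem_support_iff_le F hV u₀).mp huS
    obtain ⟨Q, hQmin, hQu⟩ := Ideal.exists_minimalPrimes_le hIu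
    have hQP : Q = (hV.primeIdealOf x₀).asIdeal := by
      by_contra hQne
      exact hgu (hQu (hgQ Q hQmin hQne))
    have hspec : x₀.1 ⤳ u₀.1 := by
      rw [Groth.Agent.Lib.Helper4.CohSk1.spec_iff hV u₀ x₀]
      intro a ha
      exact hQu (hQP ▸ ha)
    exact hspec.mem_closed hclosed hxK
  have hempty := h (X.basicOpen g) hsub
  have : x₀.1 ∈ ((X.basicOpen g : X.Opens) : Set ↥X) ∩ CohB1.support F := ⟨hxW, hx.1⟩
  rw [hempty] at this
  exact this

include hF in
/-- a coherent subsheaf with nowhere dense support lies in the subsheaf -/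
theorem app_mem_of_nowhereDense {K' : X.Modules} (j : K' ⟶ F) (hK' : Coh.IsCoh K')
    (h : ∀ U : X.Opens, (U : Set ↥X) ∩ CohB1.support F ⊆ CohB1.support K' →
      (U : Set ↥X) ∩ CohB1.support F = ∅) (U : X.Opens) (t : Γ(K', U)) :
    j.app U t ∈ (ndLocalSub F).carrier U := by
  intro x hxU hxm
  have hsub : Subsingleton (K'.presheaf.stalk x) :=
    not_not.mp (notMem_support_of_mem_maxPt' F hF hK' h hxm)
  have h1 := TopCat.Presheaf.stalkFunctor_map_germ_apply U x hxU j.mapPresheaf t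
  have h2 : K'.presheaf.germ U x hxU t = 0 := Subsingleton.elim _ _
  have h3 := congrArg (fun z => (ConcreteCategory.hom
    ((TopCat.Presheaf.stalkFunctor Ab x).map j.mapPresheaf)) z) h2
  exact h1.symm.trans (h3.trans (map_zero _))

include hF hK hi in
/-- the quotient has the same support -/
theorem support_cokernel : CohB1.support (cokernel i) = CohB1.support F := by
  haveI := hF.1
  haveI := hK.1
  haveI : (cokernel i).IsQuasicoherent := QcAbel.isQuasicoherent_cokernel i
  ext x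
  obtain ⟨V, hV, hxV⟩ := exists_affine_mem x
  haveI := finite_sections F hF hV
  haveI : Module.Finite Γ(X, V) Γ(cokernel i, V) :=
    Module.Finite.of_surjective _ (surjective_appₗ_cokernel F hF i hK hV)
  obtain ⟨x₀, hx₀⟩ : ∃ x₀ : V, x₀.1 = x := ⟨⟨x, hxV⟩, rfl⟩
  subst hx₀
  constructor
  · intro hx
    rw [mem_support_iff _ hV x₀] at hx ⊢
    exact Module.support_subset_of_surjective _ (surjective_appₗ_cokernel F hF i hK hV) hx
  · intro hx
    rw [mem_support_iff_le _ hV x₀] at hx ⊢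
    obtain ⟨Q, hQmin, hQP⟩ := Ideal.exists_minimalPrimes_le hx
    exact (annihilator_quot_le (appₗ (cokernel.π i) V) (ker_appₗ_cokernel F hF i hi hV)
      hQmin).trans hQP

include hF hK hi in
/-- the quotient has no embedded associated points -/
theorem noEmbedded_cokernel (x : X) (hx : Curv2.IsAssPoint (cokernel i) x) (y : X)
    (hy : Curv2.IsAssPoint (cokernel i) y) (hyx : y ⤳ x) : y = x := by
  haveI := hF.1
  haveI := hK.1
  haveI : (cokernel i).IsQuasicoherent := QcAbel.isQuasicoherent_cokernel i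
  obtain ⟨V, hV, hxV⟩ := exists_affine_mem x
  haveI := finite_sections F hF hV
  haveI : IsNoetherianRing Γ(X, V) := IsLocallyNoetherian.component_noetherian ⟨V, hV⟩
  have hyV : y ∈ V := hyx.mem_open V.isOpen hxV
  obtain ⟨x₀, hx₀⟩ : ∃ x₀ : V, x₀.1 = x := ⟨⟨x, hxV⟩, rfl⟩
  obtain ⟨y₀, hy₀⟩ : ∃ y₀ : V, y₀.1 = y := ⟨⟨y, hyV⟩, rfl⟩
  subst hx₀ hy₀
  rw [Groth.Agent.Lib.Helper4.CohSk1.ass_iff _ hV x₀] at hx
  rw [Groth.Agent.Lib.Helper4.CohSk1.ass_iff _ hV y₀] at hy
  have hxmin := mem_minimalPrimes_of_mem_associatedPrimes (appₗ (cokernel.π i) V)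
    (surjective_appₗ_cokernel F hF i hK hV) (ker_appₗ_cokernel F hF i hi hV) hx
  have hymin := mem_minimalPrimes_of_mem_associatedPrimes (appₗ (cokernel.π i) V)
    (surjective_appₗ_cokernel F hF i hK hV) (ker_appₗ_cokernel F hF i hi hV) hy
  have hle : hV.primeIdealOf y₀ ≤ hV.primeIdealOf x₀ :=
    (Groth.Agent.Lib.Helper4.CohSk1.spec_iff hV x₀ y₀).mp hyx
  have hle' : (hV.primeIdealOf x₀).asIdeal ≤ (hV.primeIdealOf y₀).asIdeal :=
    hxmin.2 hymin.1 hle
  have heq : hV.primeIdealOf y₀ = hV.primeIdealOf x₀ := PrimeSpectrum.ext (le_antisymm hle hle')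
  rw [primeIdealOf_injective hV heq]

include hF hi in
theorem dense_goodOpen : Dense ((goodOpen hK : X.Opens) : Set ↥X) := by
  rw [dense_iff_inter_open]
  intro W hW hWne
  by_contra hempty
  rw [Set.not_nonempty_iff_eq_empty] at hempty
  have hsub : ((⟨W, hW⟩ : X.Opens) : Set ↥X) ∩ CohB1.support F ⊆ CohB1.support K₀ := by
    rintro y ⟨hyW, hyS⟩
    by_contra hyK
    have : y ∈ W ∩ ((goodOpen hK : X.Opens) : Set ↥X) := ⟨hyW, hyK⟩
    rw [hempty] at this
    exact this
  have h1 := nowhereDense F hF i hK hi ⟨W, hW⟩ hsub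
  obtain ⟨w, hw⟩ := hWne
  have hwK : w ∈ CohB1.support K₀ := by
    by_contra hwK
    have : w ∈ W ∩ ((goodOpen hK : X.Opens) : Set ↥X) := ⟨hw, hwK⟩
    rw [hempty] at this
    exact this
  -- the support of the subsheaf lies in the support of `F`
  have hwF : w ∈ CohB1.support F := by
    intro hsub
    apply hwK
    haveI := hsub
    haveI := hF.1
    haveI := hK.1
    obtain ⟨V, hV, hwV⟩ := exists_affine_mem w
    obtain ⟨w₀, hw₀⟩ : ∃ w₀ : V, w₀.1 = w := ⟨⟨w, hwV⟩, rfl⟩
    subst hw₀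
    by_contra hne
    have h2 : w₀.1 ∈ CohB1.support K₀ := hne
    rw [mem_support_iff K₀ hV w₀] at h2
    have h3 := Module.support_subset_of_injective (appₗ i V)
      (FtLocal.app_injective_of_mono i V) h2
    rw [← mem_support_iff F hV w₀] at h3
    exact h3 hsub
  have : w ∈ ((⟨W, hW⟩ : X.Opens) : Set ↥X) ∩ CohB1.support F := ⟨hw, hwF⟩
  rw [h1] at this
  exact this

include hF hi in
theorem support_subset_closure_goodOpen :
    CohB1.support F ⊆ closure (((goodOpen hK : X.Opens) : Set ↥X) ∩ CohB1.support F) := by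
  intro x hx
  rw [mem_closure_iff]
  intro W hW hxW
  by_contra hempty
  rw [Set.not_nonempty_iff_eq_empty] at hempty
  have hsub : ((⟨W, hW⟩ : X.Opens) : Set ↥X) ∩ CohB1.support F ⊆ CohB1.support K₀ := by
    rintro y ⟨hyW, hyS⟩
    by_contra hyK
    have : y ∈ W ∩ (((goodOpen hK : X.Opens) : Set ↥X) ∩ CohB1.support F) := ⟨hyW, hyK, hyS⟩
    rw [hempty] at this
    exact this
  have h1 := nowhereDense F hF i hK hi ⟨W, hW⟩ hsub
  have : x ∈ ((⟨W, hW⟩ : X.Opens) : Set ↥X) ∩ CohB1.support F := ⟨hxW, hx⟩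
  rw [h1] at this
  exact this

include hF hi in
/-- the quotient map is an isomorphism over the complement of the support of the subsheaf -/
theorem isIso_restrict_cokernel_π :
    IsIso ((Scheme.Modules.restrictFunctor (goodOpen hK).ι).map (cokernel.π i)) := by
  haveI := hF.1
  haveI := hK.1
  apply Groth.Agent.Lead.BasisIso.isIso_of_bijective_affineOpens
  intro W hW
  have hV : IsAffineOpen ((goodOpen hK).ι ''ᵁ W) := hW.image_of_isOpenImmersion (goodOpen hK).ι
  have hVU : (goodOpen hK).ι ''ᵁ W ≤ goodOpen hK := Scheme.Opens.ι_image_le _ W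
  change Function.Bijective ((cokernel.π i).app ((goodOpen hK).ι ''ᵁ W))
  refine ⟨?_, surjective_appₗ_cokernel F hF i hK hV⟩
  have hsub : Subsingleton Γ(K₀, (goodOpen hK).ι ''ᵁ W) := by
    rw [← Module.support_eq_empty_iff (R := Γ(X, (goodOpen hK).ι ''ᵁ W)),
      Set.eq_empty_iff_forall_notMem]
    intro P hP
    obtain ⟨x₀, hx₀⟩ : ∃ x₀ : ((goodOpen hK).ι ''ᵁ W : X.Opens), hV.primeIdealOf x₀ = P :=
      ⟨⟨_, Groth.Agent.Lead.SD.fromSpec_mem hV _⟩, Groth.Agent.Lead.SD.primeIdealOf_fromSpec hV _⟩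
    rw [← hx₀, ← mem_support_iff K₀ hV x₀] at hP
    exact hVU x₀.2 hP
  have hinj : Function.Injective (appₗ (cokernel.π i) ((goodOpen hK).ι ''ᵁ W)) := by
    rw [← LinearMap.ker_eq_bot, ker_appₗ_cokernel F hF i hi hV, eq_bot_iff]
    intro s hs
    haveI := finite_sections F hF hV
    rw [← mem_ndLocalSub_iff_mem_ndSub F hV s, hi _ s] at hs
    obtain ⟨t, rfl⟩ := hs
    rw [Subsingleton.elim t 0, map_zero]
    exact zero_mem _
  exact hinj

end Setup

end Groth.Agent.Lib.Helper5.NdSub
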